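import Groth.Prelude.Def_Coh
import Mathlib.AlgebraicGeometry.AlgClosed.Basic
import Groth.Agent.Lib.Amp36.Modif.Birat
import Groth.Agent.Lib.ZMTStein.Normal
import Groth.Agent.Lib.ZMTStein.Basic

/-!
# Functions dividing along the components of the closed fibre of a modification
-/

set_option autoImplicit false
set_option linter.style.haveILetI false

universe u

open CategoryTheory Limits AlgebraicGeometry TopologicalSpace

namespace Groth.Agent.H26.ExcFn.Main

variable {A : Type u} [CommRing A] {X : Scheme.{u}} (f : X ⟶ Spec (CommRingCat.of A))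

noncomputable def φ (x : X) : A →+* X.presheaf.stalk x :=
  (X.presheaf.germ ⊤ x trivial).hom.comp (Coh.toGlobal f)

theorem fromSpecStalk_comp (x : X) : X.fromSpecStalk x ≫ f = Spec.map (CommRingCat.ofHom (φ f x)) := by
  refine ext_of_isAffine ?_
  rw [Scheme.Hom.comp_appTop, Scheme.fromSpecStalk_appTop]
  have h := (Scheme.ΓSpecIso_inv_naturality (CommRingCat.ofHom (φ f x))).symm
  rw [← cancel_epi (Scheme.ΓSpecIso (CommRingCat.of A)).inv, h]
  rfl

variable [IsDomain A] [IsIntegral X]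

theorem isNormalScheme_Spec [IsIntegrallyClosed A] : Pi1.IsNormalScheme (Spec (CommRingCat.of A)) := by
  intro p
  haveI : IsDomain (CommRingCat.of A) := ‹_›
  haveI : IsIntegrallyClosed (CommRingCat.of A) := ‹_›
  have e : Localization.AtPrime p.asIdeal ≃+* (Spec (CommRingCat.of A)).presheaf.stalk p :=
    (Spec.stalkIso (CommRingCat.of A) p).symm.commRingCatIsoToRingEquiv
  haveI : IsIntegrallyClosed (Localization.AtPrime p.asIdeal) :=
    isIntegrallyClosed_of_isLocalization _ p.asIdeal.primeCompl p.asIdeal.primeCompl_le_nonZeroDivisors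
  exact ⟨MulEquiv.isDomain _ e.symm.toMulEquiv, IsIntegrallyClosed.of_equiv e⟩

variable (U : (Spec (CommRingCat.of A)).Opens) [IsIso (f ∣_ U)]

/-- Some nonzero element of `A` is divisible by a given nonzero non-unit of a local ring. -/
theorem exists_dvd (hU : (U : Set (Spec (CommRingCat.of A))).Nonempty) [IsNoetherianRing A]
    [LocallyOfFiniteType f] (x : X) (g : X.presheaf.stalk x) (hg : g ≠ 0) :
    ∃ a : A, a ≠ 0 ∧ φ f x a ∈ Ideal.span {g} := by
  classical
  haveI : IsLocallyNoetherian X := LocallyOfFiniteType.isLocallyNoetherian f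
  have hfin : ((Ideal.span {g}).minimalPrimes).Finite := Ideal.finite_minimalPrimes_of_isNoetherianRing _ _
  have hne : ∀ q ∈ (Ideal.span {g}).minimalPrimes, ∃ b : A, b ≠ 0 ∧ φ f x b ∈ q := by
    intro q hq
    haveI : q.IsPrime := hq.1.1
    by_contra hc
    push Not at hc
    have h0 : q.comap (φ f x) = ⊥ := by
      rw [eq_bot_iff]
      intro b hb
      by_contra hb0
      exact hc b (fun h => hb0 (by rw [h]; exact zero_mem _)) hb
    let y : X := X.fromSpecStalk x ⟨q, inferInstance⟩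
    have hfy : f y = genericPoint (Spec (CommRingCat.of A)) := by
      show f (X.fromSpecStalk x ⟨q, inferInstance⟩) = _
      rw [← Scheme.Hom.comp_apply, fromSpecStalk_comp, genericPoint_eq_bot_of_affine]
      exact PrimeSpectrum.ext h0
    have hgy : y = genericPoint X := by
      have hgen := Lib.Amp36.Modif.Birat.apply_genericPoint f U hU
      exact Lib.Amp36.Modif.Birat.eq_of_apply_eq f U
        (by rw [hfy]; obtain ⟨w, hw⟩ := hU; exact (genericPoint_specializes w).mem_open U.2 hw)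
        (hfy.trans hgen.symm)
    have hbot : X.fromSpecStalk x ⟨⊥, Ideal.isPrime_bot⟩ = genericPoint X := by
      obtain ⟨p, hp⟩ : genericPoint X ∈ Set.range (X.fromSpecStalk x) := by
        rw [Scheme.range_fromSpecStalk]; exact genericPoint_specializes x
      have h1 : (⟨⊥, Ideal.isPrime_bot⟩ : Spec (X.presheaf.stalk x)) ⤳ p :=
        (PrimeSpectrum.le_iff_specializes _ p).1 bot_le
      exact ((genericPoint_specializes _).antisymm (hp ▸ h1.map (X.fromSpecStalk x).continuous)).eq.symm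
    have hq0 := (X.fromSpecStalk x).isEmbedding.injective (hgy.trans hbot.symm)
    have hq1 : q = ⊥ := congrArg PrimeSpectrum.asIdeal hq0
    exact hg (by simpa [hq1] using hq.1.2 (Ideal.mem_span_singleton_self g))
  choose! b hb0 hbq using hne
  have hrad : φ f x (∏ q ∈ hfin.toFinset, b q) ∈ (Ideal.span {g}).radical := by
    rw [← Ideal.sInf_minimalPrimes, Ideal.mem_sInf]
    intro q hq
    rw [map_prod]
    haveI : q.IsPrime := hq.1.1
    exact Ideal.IsPrime.prod_mem_iff.2 ⟨q, hfin.mem_toFinset.2 hq, hbq q hq⟩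
  obtain ⟨N, hN⟩ := hrad
  refine ⟨(∏ q ∈ hfin.toFinset, b q) ^ N, pow_ne_zero _ (Finset.prod_ne_zero_iff.2 fun q hq =>
    hb0 q (hfin.mem_toFinset.1 hq)), ?_⟩
  rw [map_pow]
  exact hN

variable [IsLocalRing A] [IsNoetherianRing A] [IsProper f]

/-- The closed fibre has no isolated points. -/
theorem not_isOpen_singleton [IsIntegrallyClosed A] (hU : (U : Set (Spec (CommRingCat.of A))).Nonempty)
    (hf : ¬ IsIso f) (z : ↥(f ⁻¹' {IsLocalRing.closedPoint A})) :
    ¬ IsOpen ({z} : Set ↥(f ⁻¹' {IsLocalRing.closedPoint A})) := by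
  obtain ⟨V, hV, -, hout⟩ := Lib.ZMTStein.exists_open f (Lib.ZMTStein.bijective_app_of_normal f isNormalScheme_Spec
    (Lib.Amp36.Modif.Birat.apply_genericPoint f U hU)
    (Lib.Amp36.Modif.Birat.stalkMap_bijective f U (Lib.Amp36.Modif.Birat.apply_genericPoint_mem f U hU)))
  have hs : IsLocalRing.closedPoint A ∉ V := by
    intro hs
    have htop : V = ⊤ := top_le_iff.1 fun p _ =>
      ((PrimeSpectrum.le_iff_specializes p (IsLocalRing.closedPoint A)).1
        (IsLocalRing.le_maximalIdeal p.isPrime.ne_top)).mem_open V.2 hs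
    subst htop
    haveI : IsIso (⊤ : (Spec (CommRingCat.of A)).Opens).ι :=
      (inferInstance : IsIso (Spec (CommRingCat.of A)).topIso.hom)
    haveI := hV
    have hc : IsIso ((f ∣_ ⊤) ≫ (⊤ : (Spec (CommRingCat.of A)).Opens).ι) := inferInstance
    rw [morphismRestrict_ι] at hc
    haveI : IsIso (f ⁻¹ᵁ ⊤).ι := (inferInstance : IsIso X.topIso.hom)
    exact hf (IsIso.of_isIso_comp_left (f ⁻¹ᵁ ⊤).ι f)
  intro hz
  refine hout _ hs ((f.fiberHomeo _).symm z) ?_
  rw [← Set.image_singleton]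
  exact (f.fiberHomeo _).symm.isOpenMap _ hz

theorem main [IsIntegrallyClosed A] (hU : (U : Set (Spec (CommRingCat.of A))).Nonempty)
    (hf : ¬ IsIso f) (hA : IsLocalRing.maximalIdeal A ≠ ⊥) :
    ∃ a : A, a ≠ 0 ∧ a ∈ IsLocalRing.maximalIdeal A ∧
      ∀ C ∈ irreducibleComponents ↥(f ⁻¹' {IsLocalRing.closedPoint A}),
        ∃ (x ξ : ↥(f ⁻¹' {IsLocalRing.closedPoint A})) (hξx : (ξ : X) ⤳ (x : X)),
          x ∈ C ∧ IsGenericPoint ξ C ∧ IsClosed ({(x : X)} : Set X) ∧
          (∀ C' ∈ irreducibleComponents ↥(f ⁻¹' {IsLocalRing.closedPoint A}), C' ≠ C → x ∉ C') ∧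
          ∃ g q : X.presheaf.stalk (x : X), g ∈ IsLocalRing.maximalIdeal (X.presheaf.stalk (x : X)) ∧
            φ f x a = g * q ∧ IsUnit ((X.presheaf.stalkSpecializes hξx).hom g) := by
  classical
  haveI : IsLocallyNoetherian X := LocallyOfFiniteType.isLocallyNoetherian f
  haveI : CompactSpace X := QuasiCompact.compactSpace_of_compactSpace f
  haveI : IsNoetherian X := ⟨⟩
  let Fs : Set X := f ⁻¹' {IsLocalRing.closedPoint A}
  have hFs : IsClosed Fs := (PrimeSpectrum.isClosed_singleton_iff_isMaximal _).2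
    (IsLocalRing.maximalIdeal.isMaximal A) |>.preimage f.continuous
  haveI : NoetherianSpace ↥Fs := NoetherianSpace.set Fs
  haveI : QuasiSober ↥Fs := hFs.isClosedEmbedding_subtypeVal.quasiSober
  haveI : JacobsonSpace ↥Fs := by
    haveI : JacobsonSpace ↥(f.fiber (IsLocalRing.closedPoint A)) :=
      LocallyOfFiniteType.jacobsonSpace (f.fiberToSpecResidueField _)
    exact JacobsonSpace.of_isClosedEmbedding (f.fiberHomeo _).symm.isClosedEmbedding
  have hfin : (irreducibleComponents ↥Fs).Finite := NoetherianSpace.finite_irreducibleComponents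
  have hC : ∀ C ∈ irreducibleComponents ↥Fs, ∃ (x ξ : ↥Fs) (hξx : (ξ : X) ⤳ (x : X)) (a : A)
      (g : X.presheaf.stalk (x : X)), x ∈ C ∧ IsGenericPoint ξ C ∧ IsClosed ({(x : X)} : Set X) ∧
      (∀ C' ∈ irreducibleComponents ↥Fs, C' ≠ C → x ∉ C') ∧ g ∈ IsLocalRing.maximalIdeal _ ∧
      IsUnit ((X.presheaf.stalkSpecializes hξx).hom g) ∧ a ≠ 0 ∧ φ f x a ∈ Ideal.span {g} := by
    intro C hC
    obtain ⟨ξ, hξ⟩ := QuasiSober.sober hC.prop (isClosed_of_mem_irreducibleComponents C hC)
    let O : Set ↥Fs := (⋃ C' ∈ irreducibleComponents ↥Fs \ {C}, C')ᶜ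
    have hO : IsOpen O := ((hfin.subset Set.sdiff_subset).isClosed_biUnion fun C' h =>
      isClosed_of_mem_irreducibleComponents C' h.1).isOpen_compl
    have hOC : O ⊆ C := fun y hy => by
      by_contra hyC
      refine hy (Set.mem_biUnion (x := irreducibleComponent y) ⟨irreducibleComponent_mem_irreducibleComponents y,
        fun h => hyC ?_⟩ mem_irreducibleComponent)
      rw [Set.mem_singleton_iff] at h
      exact h ▸ mem_irreducibleComponent
    have hξO : ξ ∈ O := fun h => by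
      obtain ⟨C', ⟨hC', hne⟩, hξC'⟩ := Set.mem_iUnion₂.1 h
      refine hne (Set.mem_singleton_iff.2 ?_)
      have hsub : C ⊆ C' := hξ ▸ closure_minimal (Set.singleton_subset_iff.2 hξC')
        (isClosed_of_mem_irreducibleComponents C' hC')
      exact Set.Subset.antisymm (hC.2 hC'.prop hsub) hsub
    obtain ⟨x, hxO, hxc⟩ := nonempty_inter_closedPoints (Z := O) ⟨ξ, hξO⟩ hO.isLocallyClosed
    rw [mem_closedPoints_iff] at hxc
    have hne : x ≠ ξ := fun h => by
      subst h
      refine not_isOpen_singleton f U hU hf x ?_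
      have hCx : C = {x} := by rw [← hξ, hxc.closure_eq]
      rw [show ({x} : Set ↥Fs) = O from Set.Subset.antisymm (Set.singleton_subset_iff.2 hξO) (hCx ▸ hOC)]
      exact hO
    have hξx : (ξ : X) ⤳ (x : X) := (hξ.specializes (hOC hxO)).map continuous_subtype_val
    have hxX : IsClosed ({(x : X)} : Set X) := by
      have := hFs.isClosedEmbedding_subtypeVal.isClosedMap _ hxc
      rwa [Set.image_singleton] at this
    obtain ⟨_, ⟨W, hW, rfl⟩, hxW, -⟩ := X.isBasis_affineOpens.exists_subset_of_mem_open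
      (Set.mem_univ (x : X)) isOpen_univ
    have hξW : (ξ : X) ∈ W := hξx.mem_open W.2 hxW
    obtain ⟨r, hr, hξr⟩ := hW.exists_basicOpen_le (V := ⟨({(x : X)} : Set X)ᶜ, hxX.isOpen_compl⟩)
      ⟨(ξ : X), fun h => hne (Subtype.ext h).symm⟩ hξW
    have hu : IsUnit ((X.presheaf.stalkSpecializes hξx).hom (X.presheaf.germ W (x : X) hxW r)) := by
      have h := X.toLocallyRingedSpace.toRingedSpace.mem_basicOpen r (ξ : X) hξW |>.1 hξr
      convert h using 1
      exact TopCat.Presheaf.germ_stalkSpecializes_apply X.presheaf (U := W) hxW hξx r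
    obtain ⟨a, ha, hag⟩ := exists_dvd f U hU (x : X) (X.presheaf.germ W (x : X) hxW r)
      (fun h => by rw [h, map_zero] at hu; exact not_isUnit_zero hu)
    refine ⟨x, ξ, hξx, a, _, hOC hxO, hξ, hxX, fun C' hC' hne' hxC' => hxO
      (Set.mem_biUnion ⟨hC', hne'⟩ hxC'), ?_, hu, ha, hag⟩
    intro hunit
    exact (hr (X.toLocallyRingedSpace.toRingedSpace.mem_basicOpen r (x : X) hxW |>.2 hunit)) rfl
  choose x ξ hξx a g h1 h2 h3 h4 h5 h6 h7 h8 using hC
  obtain ⟨c, hc, hc0⟩ := Submodule.exists_mem_ne_zero_of_ne_bot hA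
  refine ⟨c * ∏ C : hfin.toFinset, a C.1 (hfin.mem_toFinset.1 C.2), mul_ne_zero hc0
    (Finset.prod_ne_zero_iff.2 fun C _ => h7 _ _), Ideal.mul_mem_right _ _ hc, fun C hC => ?_⟩
  have hmem : φ f (x C hC) (c * ∏ C : hfin.toFinset, a C.1 (hfin.mem_toFinset.1 C.2)) ∈
      Ideal.span {g C hC} := by
    rw [map_mul, map_prod]
    refine Ideal.mul_mem_left _ _ (Ideal.mem_of_dvd _ (Finset.dvd_prod_of_mem _
      (Finset.mem_univ (⟨C, hfin.mem_toFinset.2 hC⟩ : hfin.toFinset))) (h8 C hC))
  obtain ⟨q, hq⟩ := Ideal.mem_span_singleton'.1 hmem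
  exact ⟨x C hC, ξ C hC, hξx C hC, h1 C hC, h2 C hC, h3 C hC, h4 C hC, g C hC, q, h5 C hC,
    by rw [← hq, mul_comm], h6 C hC⟩

end Groth.Agent.H26.ExcFn.Main
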